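import Cfsg.Agent.H98.Ore.FrameC
import Cfsg.Agent.H984.Ore.Frame
import Cfsg.Agent.H951.OreU.T7a
import Cfsg.Agent.H24.Ore.CorStep
import Cfsg.Agent.H588.OrePl

/-!
# S2446, task T10: good corners in even dimension
-/

set_option autoImplicit false
set_option linter.unusedSectionVars false

namespace Cfsg.Agent.H801.Ore

open Module Polynomial Cfsg.Agent.H951 Matrix Cfsg.Agent.H98.Ore

universe u v

section General

variable {F V : Type*} [Field F] [Fintype F] [AddCommGroup V] [Module F V] [FiniteDimensional F V]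
  {q : ℕ} {σ : F →+* F} {B : V → V → F}

/-- the determinant of an isometry has norm one -/
theorem isom_det (hB : HS q σ B) {g : End F V} (hg : Isom B g) :
    LinearMap.det g * σ (LinearMap.det g) = 1 := by
  classical
  have hb := hB.frm
  set n := finrank F V with hn
  let b : Basis (Fin n) F V := finBasis F V
  set M : Matrix (Fin n) (Fin n) F := Matrix.of fun i j => B (b i) (b j) with hM
  set X : Matrix (Fin n) (Fin n) F := LinearMap.toMatrix b b g with hX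
  have hgb : ∀ j, g (b j) = ∑ i, X i j • b i := fun j => by
    conv_lhs => rw [← b.sum_repr (g (b j))]
    exact Finset.sum_congr rfl fun i _ => by rw [hX, LinearMap.toMatrix_apply]
  have hXM : Xᵀ * M * X.map σ = M := by
    ext i j
    rw [hM, Matrix.of_apply, ← hg (b i) (b j), hgb i, hgb j, hb.sum_left]
    simp only [Matrix.mul_apply, Matrix.transpose_apply, Matrix.map_apply, Matrix.of_apply, hb.sum_right,
      hb.smul_left, hb.smul_right, Finset.sum_mul]
    rw [Finset.sum_comm]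
    exact Finset.sum_congr rfl fun x _ => Finset.sum_congr rfl fun y _ => by ring
  have hM0 : M.det ≠ 0 := by
    intro h
    obtain ⟨v, hv, hvM⟩ := Matrix.exists_vecMul_eq_zero_iff.2 h
    apply hv
    have h0 : ∑ i, v i • b i = 0 := by
      apply hB.nd
      intro y
      rw [← b.sum_repr y, hb.sum_right]
      apply Finset.sum_eq_zero
      intro j _
      rw [hb.smul_right, hb.sum_left]
      have : (v ᵥ* M) j = 0 := by rw [hvM]; rfl
      simp only [Matrix.vecMul, dotProduct, hM, Matrix.of_apply] at this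
      simp only [hb.smul_left]
      rw [this, mul_zero]
    have := Fintype.linearIndependent_iff.1 b.linearIndependent v h0
    exact funext this
  have hdX : LinearMap.det g = X.det := (LinearMap.det_toMatrix b g).symm
  have h1 := congrArg Matrix.det hXM
  rw [Matrix.det_mul, Matrix.det_mul, Matrix.det_transpose] at h1
  have h2 : (X.map σ).det = σ X.det := (RingHom.map_det σ X).symm
  rw [h2] at h1
  rw [hdX]
  apply mul_right_cancel₀ hM0
  rw [one_mul]
  linear_combination h1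

/-- an isometry is injective -/
theorem isom_inj (hB : HS q σ B) {g : End F V} (hg : Isom B g) : Function.Injective g := by
  rw [injective_iff_map_eq_zero]
  intro x hx
  apply hB.nd
  intro y
  rw [← hg x y, hx, hB.frm.zero_left]

/-- Hilbert 90 -/
theorem exists_eq_mul_sig {F : Type*} [Field F] [Fintype F] {q : ℕ} {σ : F →+* F}
    (hF : Fintype.card F = q ^ 2) (hσ : ∀ a, σ a = a ^ q) {δ : F} (hδ : δ * σ δ = 1) :
    ∃ d : F, d ≠ 0 ∧ d = δ * σ d := by
  by_contra hcon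
  push Not at hcon
  have hss : ∀ a, σ (σ a) = a := fun a => by rw [hσ, hσ, LieClassical.HermBasic.pow_q_pow_q hF]
  have hz : ∀ t : F, t + δ * σ t = 0 := by
    intro t
    by_contra h
    apply hcon _ h
    rw [map_add, map_mul, hss, mul_add, ← mul_assoc, hδ, one_mul, add_comm]
  have h1 := hz 1
  rw [map_one, mul_one] at h1
  have hδ1 : δ = -1 := by linear_combination h1
  obtain ⟨x, hx⟩ := LieClassical.HermBasic.exists_not_fixed hF
  apply hx
  have := hz x
  rw [hδ1, hσ] at this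
  linear_combination -this

/-- `g` has corners of determinant `d` avoiding any eigenvalue except perhaps one -/
def HasA (B : V → V → F) (g : End F V) (d : F) : Prop :=
  ∃ bad : F, ∀ x, x ≠ bad → ∃ (ι : Type) (_ : Fintype ι) (_ : DecidableEq ι) (P : Matrix ι ι F),
    finrank F V = 2 * Fintype.card ι ∧ Cor B g P ∧ P.det = d ∧ P.charpoly.eval x ≠ 0

/-- `g` has a corner of determinant `d` with a simple eigenvalue -/
def HasS (B : V → V → F) (g : End F V) (d : F) : Prop :=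
  ∃ (ι : Type) (_ : Fintype ι) (_ : DecidableEq ι) (P : Matrix ι ι F),
    finrank F V = 2 * Fintype.card ι ∧ Cor B g P ∧ P.det = d ∧
    ∃ (x : F) (p : F[X]), P.charpoly = (X - C x) * p ∧ p.eval x ≠ 0

omit [FiniteDimensional F V] in
theorem exists_corner (hF : Fintype.card F = q ^ 2) {g : End F V} {d : F} (h : HasA B g d ∨ HasS B g d) :
    ∃ (ι : Type) (_ : Fintype ι) (_ : DecidableEq ι) (P : Matrix ι ι F),
      finrank F V = 2 * Fintype.card ι ∧ Cor B g P ∧ P.det = d := by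
  rcases h with ⟨bad, h⟩ | ⟨ι, i1, i2, P, h1, h2, h3, -⟩
  · obtain ⟨x, hx⟩ : ∃ x : F, x ≠ bad := by
      obtain ⟨x, hx⟩ := LieClassical.HermBasic.exists_not_fixed hF
      by_cases h0 : bad = 0
      · exact ⟨1, by rw [h0]; exact one_ne_zero⟩
      · exact ⟨0, fun h => h0 h.symm⟩
    obtain ⟨ι, i1, i2, P, h1, h2, h3, -⟩ := h x hx
    exact ⟨ι, i1, i2, P, h1, h2, h3⟩
  · exact ⟨ι, i1, i2, P, h1, h2, h3⟩

/-- scalar corners of a scalar isometry -/
theorem cor_scalar (hB : HS q σ B) {m : ℕ} (hm : finrank F V = 2 * m) (c : F) :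
    Cor B (c • (1 : End F V)) (Matrix.scalar (Fin m) c) := by
  obtain ⟨w, w', hw⟩ := H984.Ore.exists_frame hB (Or.inl hm)
  refine ⟨w, w', hw, fun i j => ?_⟩
  rw [LinearMap.smul_apply, End.one_apply, hB.frm.smul_left, hw.dual, Matrix.scalar_apply, Matrix.diagonal_apply]
  by_cases h : i = j
  · rw [if_pos h, if_pos h.symm, mul_one]
  · rw [if_neg h, if_neg (Ne.symm h), mul_zero]

theorem charpoly_scalar {ι : Type*} [Fintype ι] [DecidableEq ι] (c : F) :
    (Matrix.scalar ι c).charpoly = (X - C c) ^ Fintype.card ι := by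
  rw [Matrix.scalar_apply, Matrix.charpoly_diagonal, Finset.prod_const, Finset.card_univ]

theorem hasA_scalar (hB : HS q σ B) {m : ℕ} (hm : finrank F V = 2 * m) (c : F) :
    HasA B (c • (1 : End F V)) (c ^ m) := by
  refine ⟨c, fun x hx => ⟨Fin m, inferInstance, inferInstance, Matrix.scalar (Fin m) c, ?_, cor_scalar hB hm c, ?_, ?_⟩⟩
  · rw [Fintype.card_fin, hm]
  · rw [Matrix.scalar_apply, Matrix.det_diagonal, Finset.prod_const, Finset.card_univ, Fintype.card_fin]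
  · rw [charpoly_scalar, eval_pow, eval_sub, eval_X, eval_C]
    exact pow_ne_zero _ (sub_ne_zero.2 hx)

theorem exists_anti (hF : Fintype.card F = q ^ 2) (hσ : ∀ a, σ a = a ^ q) : ∃ i : F, i ≠ 0 ∧ σ i = -i := by
  obtain ⟨x, h0, hx⟩ := LieClassical.HermBasic.exists_trace_zero_ne hF
  exact ⟨x, h0, by rw [hσ]; linear_combination hx⟩

theorem isom_sig_inj (hB : HS q σ B) {a : F} (ha : a ≠ 0) : σ a ≠ 0 := (map_ne_zero σ).2 ha

/-- the determinant left for the first block is `γ₁ γ₂ D` with `D` fixed by `σ` -/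
theorem exists_D (hB : HS q σ B) {g : End F V} (hg : Isom B g) {w : V} {U : Submodule F V} {g₁ : End F U}
    {b : U → F} (h : Step B g w U g₁ b) {w₂ : U} {U₂ : Submodule F U} {g₂ : End F U₂} {b₂ : U₂ → F}
    (h₂ : Step (res B U) g₁ w₂ U₂ g₂ b₂) {d₂ d : F} (hd₂ : d₂ ≠ 0)
    (hc : HasA (res (res B U) U₂) g₂ d₂ ∨ HasS (res (res B U) U₂) g₂ d₂) (hd : d ≠ 0)
    (hdd : d = LinearMap.det g * σ d) :
    ∃ D : F, D ≠ 0 ∧ σ D = D ∧ B (g w) w * B (g₁ w₂ : V) w₂ * D * d₂ = d := by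
  classical
  obtain ⟨i, hi0, hi⟩ := exists_anti hB.card hB.sig
  obtain ⟨ι, _, _, P₂, hdim, hP₂, hdet⟩ := exists_corner hB.card hc
  obtain ⟨hsU, hfU⟩ := H951.OreU.Step.hs hB hg h
  obtain ⟨hsU₂, hfU₂⟩ := H951.OreU.Step.hs hsU h.isom h₂
  obtain ⟨R, hR⟩ := H24.Ore.cor_pair hB hg h h₂ hP₂ i i 0 hi hi
  have hγ₁ : B (g w) w ≠ 0 := h.ne
  have hγ₂ : B (g₁ w₂ : V) w₂ ≠ 0 := h₂.ne
  have hdg : LinearMap.det g ≠ 0 := left_ne_zero_of_mul (a := LinearMap.det g) (by rw [isom_det hB hg]; exact one_ne_zero)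
  set γ₁ := B (g w) w
  set γ₂ := B (g₁ w₂ : V) w₂
  have e1 : (Matrix.fromBlocks (!![i, 0; -σ 0, i] * !![γ₁, b w₂ * γ₁; 0, γ₂]) R 0 P₂).det = i ^ 2 * (γ₁ * γ₂ * d₂) := by
    rw [Matrix.det_fromBlocks_zero₂₁, Matrix.det_mul, Matrix.det_fin_two_of, Matrix.det_fin_two_of, hdet, map_zero]
    ring
  have hE : γ₁ * γ₂ * d₂ ≠ 0 := mul_ne_zero (mul_ne_zero hγ₁ hγ₂) hd₂
  have e2 := cor_det hB hg (by rw [Fintype.card_sum, Fintype.card_fin]; omega) hR
    (by rw [e1]; exact mul_ne_zero (pow_ne_zero _ hi0) hE)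
  rw [e1, map_mul, map_pow, hi] at e2
  have e3 : γ₁ * γ₂ * d₂ = LinearMap.det g * σ (γ₁ * γ₂ * d₂) := by
    apply mul_left_cancel₀ (pow_ne_zero 2 hi0)
    linear_combination e2
  have hsE : σ (γ₁ * γ₂ * d₂) ≠ 0 := (map_ne_zero σ).2 hE
  refine ⟨d / (γ₁ * γ₂ * d₂), div_ne_zero hd hE, ?_, ?_⟩
  · rw [map_div₀, div_eq_div_iff hsE hE]
    apply mul_left_cancel₀ hdg
    linear_combination d * e3 - (γ₁ * γ₂ * d₂) * hdd
  · field_simp

theorem exists_d (hB : HS q σ B) {m : ℕ} (hm : finrank F V = 2 * m) {g : End F V} (hg : Isom B g)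
    (IH : (∀ c : F, g ≠ c • (1 : End F V)) → ∀ d : F, d ≠ 0 → d = LinearMap.det g * σ d → HasA B g d ∨ HasS B g d) :
    ∃ d : F, d ≠ 0 ∧ (HasA B g d ∨ HasS B g d) := by
  by_cases hsc : ∀ c : F, g ≠ c • (1 : End F V)
  · obtain ⟨d, hd, hdd⟩ := exists_eq_mul_sig hB.card hB.sig (isom_det hB hg)
    exact ⟨d, hd, IH hsc d hd hdd⟩
  · push Not at hsc
    obtain ⟨c, rfl⟩ := hsc
    refine ⟨c ^ m, ?_, Or.inl (hasA_scalar hB hm c)⟩
    rcases Nat.eq_zero_or_pos m with rfl | hm0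
    · simp
    · apply pow_ne_zero
      rintro rfl
      have : 0 < finrank F V := by omega
      obtain ⟨x, hx⟩ := (finrank_pos_iff_exists_ne_zero (R := F) (M := V)).1 this
      exact hx (isom_inj hB hg (by simp))

/-- two steps -/
theorem two_step_A (hB : HS q σ B) {g : End F V} (hg : Isom B g) {w : V} {U : Submodule F V} {g₁ : End F U}
    {b : U → F} (h : Step B g w U g₁ b) {w₂ : U} {U₂ : Submodule F U} {g₂ : End F U₂} {b₂ : U₂ → F}
    (h₂ : Step (res B U) g₁ w₂ U₂ g₂ b₂) {d₂ d : F} (hd₂ : d₂ ≠ 0)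
    (hc : HasA (res (res B U) U₂) g₂ d₂) (hd : d ≠ 0)
    (hdd : d = LinearMap.det g * σ d) : HasA B g d := by
  classical
  obtain ⟨D, hD, hDs, hDd⟩ := exists_D hB hg h h₂ hd₂ (Or.inl hc) hd hdd
  obtain ⟨hsU, hfU⟩ := H951.OreU.Step.hs hB hg h
  obtain ⟨hsU₂, hfU₂⟩ := H951.OreU.Step.hs hsU h.isom h₂
  obtain ⟨bad, hA⟩ := hc
  refine ⟨bad, fun x hx => ?_⟩
  obtain ⟨ι, _, _, P₂, hdim, hP₂, hdet, hev⟩ := hA x hx
  obtain ⟨s₁, s₂, β, hs₁, hs₂, hSd, hSe⟩ := H588.Ore.pl1 (κ := b w₂ * B (g w) w) hB.card hB.sig h.ne h₂.ne hD hDs x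
  obtain ⟨R, hR⟩ := H24.Ore.cor_pair hB hg h h₂ hP₂ s₁ s₂ β hs₁ hs₂
  refine ⟨Fin 2 ⊕ ι, inferInstance, inferInstance, _, ?_, hR, ?_, ?_⟩
  · rw [Fintype.card_sum, Fintype.card_fin]; omega
  · rw [Matrix.det_fromBlocks_zero₂₁, hdet]
    exact (congrArg (· * d₂) hSd).trans hDd
  · rw [Matrix.charpoly_fromBlocks_zero₂₁, eval_mul]
    exact mul_ne_zero hSe hev

theorem two_step_S (hB : HS q σ B) {g : End F V} (hg : Isom B g) {w : V} {U : Submodule F V} {g₁ : End F U}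
    {b : U → F} (h : Step B g w U g₁ b) {w₂ : U} {U₂ : Submodule F U} {g₂ : End F U₂} {b₂ : U₂ → F}
    (h₂ : Step (res B U) g₁ w₂ U₂ g₂ b₂) {d₂ d : F} (hd₂ : d₂ ≠ 0)
    (hc : HasS (res (res B U) U₂) g₂ d₂) (hd : d ≠ 0)
    (hdd : d = LinearMap.det g * σ d) : HasS B g d := by
  classical
  obtain ⟨D, hD, hDs, hDd⟩ := exists_D hB hg h h₂ hd₂ (Or.inr hc) hd hdd
  obtain ⟨hsU, hfU⟩ := H951.OreU.Step.hs hB hg h
  obtain ⟨hsU₂, hfU₂⟩ := H951.OreU.Step.hs hsU h.isom h₂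
  obtain ⟨ι, _, _, P₂, hdim, hP₂, hdet, x, p, hp, hpx⟩ := hc
  obtain ⟨s₁, s₂, β, hs₁, hs₂, hSd, hSe⟩ := H588.Ore.pl1 (κ := b w₂ * B (g w) w) hB.card hB.sig h.ne h₂.ne hD hDs x
  obtain ⟨R, hR⟩ := H24.Ore.cor_pair hB hg h h₂ hP₂ s₁ s₂ β hs₁ hs₂
  refine ⟨Fin 2 ⊕ ι, inferInstance, inferInstance, _, ?_, hR, ?_, x, (!![s₁, β; -σ β, s₂] *
    !![B (g w) w, b w₂ * B (g w) w; 0, B (g₁ w₂ : V) w₂]).charpoly * p, ?_, ?_⟩
  · rw [Fintype.card_sum, Fintype.card_fin]; omega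
  · rw [Matrix.det_fromBlocks_zero₂₁, hdet]
    exact (congrArg (· * d₂) hSd).trans hDd
  · rw [Matrix.charpoly_fromBlocks_zero₂₁, hp]; ring
  · rw [eval_mul]; exact mul_ne_zero hSe hpx

/-- one step, the remainder being scalar -/
theorem one_step (hB : HS q σ B) {m : ℕ} {g : End F V} (hg : Isom B g) {w : V}
    {U : Submodule F V} {c : F} (hm : finrank F U = 2 * m) {b : U → F} (h : Step B g w U (c • (1 : End F U)) b)
    {d : F} (hd : d ≠ 0) (hdd : d = LinearMap.det g * σ d) : HasA B g d ∨ HasS B g d := by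
  classical
  obtain ⟨i, hi0, hi⟩ := exists_anti hB.card hB.sig
  obtain ⟨hsU, hfU⟩ := H951.OreU.Step.hs hB hg h
  have hP₁ := cor_scalar hsU hm c
  have hcm : c ^ m ≠ 0 := by
    rcases Nat.eq_zero_or_pos m with rfl | hm0
    · simp
    · apply pow_ne_zero
      rintro rfl
      have : 0 < finrank F U := by omega
      obtain ⟨x, hx⟩ := (finrank_pos_iff_exists_ne_zero (R := F) (M := U)).1 this
      exact hx (isom_inj hsU h.isom (by simp))
  have hdetP : (Matrix.scalar (Fin m) c).det = c ^ m := by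
    rw [Matrix.scalar_apply, Matrix.det_diagonal, Finset.prod_const, Finset.card_univ, Fintype.card_fin]
  have hdet : ∀ s (R : Matrix Unit (Fin m) F), (Matrix.fromBlocks (Matrix.of fun _ _ => s * B (g w) w) R 0
      (Matrix.scalar (Fin m) c)).det = s * B (g w) w * c ^ m := by
    intro s R
    rw [Matrix.det_fromBlocks_zero₂₁, hdetP, Matrix.det_unique, Matrix.of_apply]
  have hdim : finrank F V = 2 * Fintype.card (Unit ⊕ Fin m) := by
    rw [Fintype.card_sum, Fintype.card_fin, Fintype.card_unit]; omega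
  have hdg : LinearMap.det g ≠ 0 := left_ne_zero_of_mul (a := LinearMap.det g) (by rw [isom_det hB hg]; exact one_ne_zero)
  have hγ : B (g w) w ≠ 0 := h.ne
  have hd0 : i * B (g w) w * c ^ m ≠ 0 := mul_ne_zero (mul_ne_zero hi0 hγ) hcm
  have e1 : i * B (g w) w * c ^ m = LinearMap.det g * σ (i * B (g w) w * c ^ m) := by
    obtain ⟨R, -, hR⟩ := H24.Ore.cor_step hB hg h hP₁ i hi
    have := cor_det hB hg hdim hR (by rw [hdet]; exact hd0)
    rwa [hdet] at this
  set d₀ := i * B (g w) w * c ^ m with hd₀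
  have hsd0 : σ d₀ ≠ 0 := (map_ne_zero σ).2 hd0
  have ht : σ (d / d₀) = d / d₀ := by
    rw [map_div₀, div_eq_div_iff hsd0 hd0]
    apply mul_left_cancel₀ hdg
    linear_combination d * e1 - d₀ * hdd
  obtain ⟨R, -, hR⟩ := H24.Ore.cor_step hB hg h hP₁ (i * (d / d₀)) (by rw [map_mul, hi, ht, neg_mul])
  have hsd : i * (d / d₀) * B (g w) w * c ^ m = d := by
    have : i * (d / d₀) * B (g w) w * c ^ m = d / d₀ * d₀ := by rw [hd₀]; ring
    rw [this, div_mul_cancel₀ _ hd0]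
  set α := i * (d / d₀) * B (g w) w with hα
  have hch : (Matrix.fromBlocks (Matrix.of fun _ _ => α) R 0 (Matrix.scalar (Fin m) c)).charpoly =
      (X - C α) * (X - C c) ^ m := by
    rw [Matrix.charpoly_fromBlocks_zero₂₁, charpoly_scalar, Fintype.card_fin]
    congr 1
    rw [Matrix.charpoly, Matrix.det_unique, Matrix.charmatrix_apply_eq, Matrix.of_apply]
  by_cases hαc : α = c
  · refine Or.inl ⟨α, fun x hx => ⟨_, inferInstance, inferInstance, _, hdim, hR, (hdet _ R).trans hsd, ?_⟩⟩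
    rw [hch, eval_mul, eval_pow, eval_sub, eval_sub, eval_X, eval_C, eval_C, ← hαc]
    exact mul_ne_zero (sub_ne_zero.2 hx) (pow_ne_zero _ (sub_ne_zero.2 hx))
  · refine Or.inr ⟨_, inferInstance, inferInstance, _, hdim, hR, (hdet _ R).trans hsd, α, _, hch, ?_⟩
    rw [eval_pow, eval_sub, eval_X, eval_C]
    exact pow_ne_zero _ (sub_ne_zero.2 hαc)

end General

/-- every determinant compatible with `cor_det` is reached -/
theorem claim {F : Type v} [Field F] [Fintype F] {q : ℕ} {σ : F →+* F} (m : ℕ) :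
    ∀ (V : Type u) [AddCommGroup V] [Module F V] [FiniteDimensional F V] (B : V → V → F), HS q σ B →
      finrank F V = 2 * m → ∀ g : End F V, Isom B g → (∀ c : F, g ≠ c • (1 : End F V)) → ∀ d : F, d ≠ 0 →
      d = LinearMap.det g * σ d → HasA B g d ∨ HasS B g d := by
  induction m using Nat.strong_induction_on with
  | _ m IH =>
    intro V _ _ _ B hB hm g hg hns d hd hdd
    obtain ⟨w, hw0, hw1⟩ := H951.OreU.exists_typeI hB hg hns
    obtain ⟨U, g₁, b, h⟩ := H951.OreU.exists_step hB hg hw0 hw1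
    obtain ⟨hsU, hfU⟩ := H951.OreU.Step.hs hB hg h
    by_cases hsc : ∀ c : F, g₁ ≠ c • (1 : End F U)
    · obtain ⟨w₂, hw20, hw21⟩ := H951.OreU.exists_typeI hsU h.isom hsc
      obtain ⟨U₂, g₂, b₂, h₂⟩ := H951.OreU.exists_step hsU h.isom hw20 hw21
      obtain ⟨hsU₂, hfU₂⟩ := H951.OreU.Step.hs hsU h.isom h₂
      have hm2 : finrank F U₂ = 2 * (m - 2) := by omega
      obtain ⟨d₂, hd₂, hc⟩ := exists_d hsU₂ hm2 h₂.isom (fun hns₂ =>
        IH (m - 2) (by omega) U₂ (res (res B U) U₂) hsU₂ hm2 g₂ h₂.isom hns₂)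
      rcases hc with hc | hc
      · exact Or.inl (two_step_A hB hg h h₂ hd₂ hc hd hdd)
      · exact Or.inr (two_step_S hB hg h h₂ hd₂ hc hd hdd)
    · push Not at hsc
      obtain ⟨c, rfl⟩ := hsc
      exact one_step hB (m := m - 1) hg (by omega) h hd hdd

theorem good_even {F : Type v} {V : Type u} [Field F] [Fintype F] [AddCommGroup V] [Module F V]
    [FiniteDimensional F V] {q : ℕ} {σ : F →+* F} {B : V → V → F}
    (hB : HS q σ B) {g : End F V} (hg : Isom B g) (hdet : LinearMap.det g = 1) {m : ℕ}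
    (hm : finrank F V = 2 * m) {w : V} {U : Submodule F V} {g₁ : End F U} {b : U → F} (h : Step B g w U g₁ b)
    (hns : ∀ c : F, g₁ ≠ c • (1 : End F U)) : Good B g := by
  classical
  have hdd : (1 : F) = LinearMap.det g * σ 1 := by rw [hdet, map_one, one_mul]
  obtain ⟨hsU, hfU⟩ := H951.OreU.Step.hs hB hg h
  obtain ⟨w₂, hw20, hw21⟩ := H951.OreU.exists_typeI hsU h.isom hns
  obtain ⟨U₂, g₂, b₂, h₂⟩ := H951.OreU.exists_step hsU h.isom hw20 hw21
  obtain ⟨hsU₂, hfU₂⟩ := H951.OreU.Step.hs hsU h.isom h₂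
  have hm2 : finrank F U₂ = 2 * (m - 2) := by omega
  obtain ⟨d₂, hd₂, hc⟩ := exists_d hsU₂ hm2 h₂.isom (fun hns₂ =>
    claim (m - 2) U₂ (res (res B U) U₂) hsU₂ hm2 g₂ h₂.isom hns₂)
  have hfin : ∀ {P}, HasS B g P → P = 1 → Good B g := by
    rintro _ ⟨ι, i1, i2, P, h1, h2, h3, h4⟩ rfl
    exact ⟨ι, i1, i2, P, Or.inl h1, h2, h3, h4⟩
  rcases hc with ⟨bad, hA⟩ | hS
  · obtain ⟨D, hD, hDs, hDd⟩ := exists_D hB hg h h₂ hd₂ (Or.inl ⟨bad, hA⟩) one_ne_zero hdd
    obtain ⟨s₁, s₂, β, x, y, hs₁, hs₂, hxy, hSd, hSc⟩ :=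
      H588.Ore.pl2 (κ := b w₂ * B (g w) w) hB.card hB.sig h.ne h₂.ne hD hDs
    have key : ∀ x y : F, x ≠ y → x ≠ bad → (!![s₁, β; -σ β, s₂] *
        !![B (g w) w, b w₂ * B (g w) w; 0, B (g₁ w₂ : V) w₂]).charpoly = (X - C x) * (X - C y) → Good B g := by
      intro x y hxy hx hSc
      obtain ⟨ι, _, _, P₂, hdim, hP₂, hdet₂, hev⟩ := hA x hx
      obtain ⟨R, hR⟩ := H24.Ore.cor_pair hB hg h h₂ hP₂ s₁ s₂ β hs₁ hs₂
      refine ⟨Fin 2 ⊕ ι, inferInstance, inferInstance, _, Or.inl ?_, hR, ?_, x, (X - C y) * P₂.charpoly, ?_, ?_⟩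
      · rw [Fintype.card_sum, Fintype.card_fin]; omega
      · rw [Matrix.det_fromBlocks_zero₂₁, hdet₂]
        exact (congrArg (· * d₂) hSd).trans hDd
      · rw [Matrix.charpoly_fromBlocks_zero₂₁, hSc, mul_assoc]
      · rw [eval_mul, eval_sub, eval_X, eval_C]
        exact mul_ne_zero (sub_ne_zero.2 hxy) hev
    by_cases hx : x = bad
    · exact key y x hxy.symm (fun h => hxy (hx.trans h.symm)) (hSc.trans (mul_comm _ _))
    · exact key x y hxy hx hSc
  · exact hfin (two_step_S hB hg h h₂ hd₂ hS one_ne_zero hdd) rfl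

end Cfsg.Agent.H801.Ore
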